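import Mathlib
import Cfsg.Agent.Rec.Tree

/-! Generated by tools/rec: the symmetric group of degree five -/

set_option autoImplicit false
set_option maxRecDepth 100000
set_option linter.unusedVariables false
set_option exponentiation.threshold 100000

namespace Cfsg.Agent.Rec.X32

open Cfsg.Agent.Spor Cfsg.Agent.Rec

universe u

/-- Packed permutations of 5 points. -/
noncomputable def P5 : Ar := permAr (nat_lit 5) (nat_lit 0x403020100)

theorem P5_ok : oneOK (nat_lit 5) (nat_lit 0x403020100) = true := by decide +kernel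

noncomputable def cS5 : List ℕ := [(nat_lit 0x403020001), (nat_lit 0x4030201)]

theorem cS5_ok : allL cS5 (permOK 5) = true := by decide +kernel

noncomputable def S5_t : ST :=
(.node (nat_lit 0x203000104) (.node (nat_lit 0x102000304) (.node (nat_lit 0x3020401) (.node (nat_lit 0x2010403) (.node (nat_lit 0x1030402) (.node (nat_lit 0x1020403) (.leaf (nat_lit 0x1020304) (nat_lit 2560))
 (.node (nat_lit 0x1030204) (.leaf (nat_lit 0x1020403) (nat_lit 2561))
 (.leaf (nat_lit 0x1030204) (nat_lit 2049))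
)) (.node (nat_lit 0x1040302) (.node (nat_lit 0x1040203) (.leaf (nat_lit 0x1030402) (nat_lit 2305))
 (.leaf (nat_lit 0x1040203) (nat_lit 1024))
) (.node (nat_lit 0x2010304) (.leaf (nat_lit 0x1040302) (nat_lit 768))
 (.leaf (nat_lit 0x2010304) (nat_lit 1536))
))) (.node (nat_lit 0x2040301) (.node (nat_lit 0x2030401) (.node (nat_lit 0x2030104) (.leaf (nat_lit 0x2010403) (nat_lit 1280))
 (.leaf (nat_lit 0x2030104) (nat_lit 1793))
) (.node (nat_lit 0x2040103) (.leaf (nat_lit 0x2030401) (nat_lit 2049))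
 (.leaf (nat_lit 0x2040103) (nat_lit 2305))
)) (.node (nat_lit 0x3010402) (.node (nat_lit 0x3010204) (.leaf (nat_lit 0x2040301) (nat_lit 2049))
 (.leaf (nat_lit 0x3010204) (nat_lit 1793))
) (.node (nat_lit 0x3020104) (.leaf (nat_lit 0x3010402) (nat_lit 2049))
 (.leaf (nat_lit 0x3020104) (nat_lit 1537))
)))) (.node (nat_lit 0x4030102) (.node (nat_lit 0x4010203) (.node (nat_lit 0x3040102) (.leaf (nat_lit 0x3020401) (nat_lit 1793))
 (.node (nat_lit 0x3040201) (.leaf (nat_lit 0x3040102) (nat_lit 2049))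
 (.leaf (nat_lit 0x3040201) (nat_lit 1793))
)) (.node (nat_lit 0x4020103) (.node (nat_lit 0x4010302) (.leaf (nat_lit 0x4010203) (nat_lit 2049))
 (.leaf (nat_lit 0x4010302) (nat_lit 2049))
) (.node (nat_lit 0x4020301) (.leaf (nat_lit 0x4020103) (nat_lit 1793))
 (.leaf (nat_lit 0x4020301) (nat_lit 1793))
))) (.node (nat_lit 0x100030204) (.node (nat_lit 0x100020304) (.node (nat_lit 0x4030201) (.leaf (nat_lit 0x4030102) (nat_lit 513))
 (.leaf (nat_lit 0x4030201) (nat_lit 257))
) (.node (nat_lit 0x100020403) (.leaf (nat_lit 0x100020304) (nat_lit 2305))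
 (.leaf (nat_lit 0x100020403) (nat_lit 2305))
)) (.node (nat_lit 0x100040203) (.node (nat_lit 0x100030402) (.leaf (nat_lit 0x100030204) (nat_lit 2049))
 (.leaf (nat_lit 0x100030402) (nat_lit 2049))
) (.node (nat_lit 0x100040302) (.leaf (nat_lit 0x100040203) (nat_lit 769))
 (.leaf (nat_lit 0x100040302) (nat_lit 513))
))))) (.node (nat_lit 0x104020300) (.node (nat_lit 0x103000402) (.node (nat_lit 0x102030400) (.node (nat_lit 0x102000403) (.leaf (nat_lit 0x102000304) (nat_lit 1281))
 (.node (nat_lit 0x102030004) (.leaf (nat_lit 0x102000403) (nat_lit 1025))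
 (.leaf (nat_lit 0x102030004) (nat_lit 2048))
)) (.node (nat_lit 0x102040300) (.node (nat_lit 0x102040003) (.leaf (nat_lit 0x102030400) (nat_lit 2304))
 (.leaf (nat_lit 0x102040003) (nat_lit 2561))
) (.node (nat_lit 0x103000204) (.leaf (nat_lit 0x102040300) (nat_lit 2305))
 (.leaf (nat_lit 0x103000204) (nat_lit 2048))
))) (.node (nat_lit 0x103040200) (.node (nat_lit 0x103020400) (.node (nat_lit 0x103020004) (.leaf (nat_lit 0x103000402) (nat_lit 2304))
 (.leaf (nat_lit 0x103020004) (nat_lit 1537))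
) (.node (nat_lit 0x103040002) (.leaf (nat_lit 0x103020400) (nat_lit 1793))
 (.leaf (nat_lit 0x103040002) (nat_lit 2305))
)) (.node (nat_lit 0x104000302) (.node (nat_lit 0x104000203) (.leaf (nat_lit 0x103040200) (nat_lit 2049))
 (.leaf (nat_lit 0x104000203) (nat_lit 2305))
) (.node (nat_lit 0x104020003) (.leaf (nat_lit 0x104000302) (nat_lit 2049))
 (.leaf (nat_lit 0x104020003) (nat_lit 2048))
)))) (.node (nat_lit 0x200040103) (.node (nat_lit 0x200010304) (.node (nat_lit 0x104030002) (.leaf (nat_lit 0x104020300) (nat_lit 2049))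
 (.node (nat_lit 0x104030200) (.leaf (nat_lit 0x104030002) (nat_lit 768))
 (.leaf (nat_lit 0x104030200) (nat_lit 512))
)) (.node (nat_lit 0x200030104) (.node (nat_lit 0x200010403) (.leaf (nat_lit 0x200010304) (nat_lit 1280))
 (.leaf (nat_lit 0x200010403) (nat_lit 1024))
) (.node (nat_lit 0x200030401) (.leaf (nat_lit 0x200030104) (nat_lit 2305))
 (.leaf (nat_lit 0x200030401) (nat_lit 2305))
))) (.node (nat_lit 0x201030004) (.node (nat_lit 0x201000304) (.node (nat_lit 0x200040301) (.leaf (nat_lit 0x200040103) (nat_lit 1025))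
 (.leaf (nat_lit 0x200040301) (nat_lit 769))
) (.node (nat_lit 0x201000403) (.leaf (nat_lit 0x201000304) (nat_lit 1025))
 (.leaf (nat_lit 0x201000403) (nat_lit 769))
)) (.node (nat_lit 0x201040003) (.node (nat_lit 0x201030400) (.leaf (nat_lit 0x201030004) (nat_lit 2560))
 (.leaf (nat_lit 0x201030400) (nat_lit 2561))
) (.node (nat_lit 0x201040300) (.leaf (nat_lit 0x201040003) (nat_lit 1280))
 (.leaf (nat_lit 0x201040300) (nat_lit 1024))
)))))) (.node (nat_lit 0x304000102) (.node (nat_lit 0x300020401) (.node (nat_lit 0x204000301) (.node (nat_lit 0x203010400) (.node (nat_lit 0x203000401) (.leaf (nat_lit 0x203000104) (nat_lit 1536))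
 (.node (nat_lit 0x203010004) (.leaf (nat_lit 0x203000401) (nat_lit 1792))
 (.leaf (nat_lit 0x203010004) (nat_lit 1281))
)) (.node (nat_lit 0x203040100) (.node (nat_lit 0x203040001) (.leaf (nat_lit 0x203010400) (nat_lit 1537))
 (.leaf (nat_lit 0x203040001) (nat_lit 2561))
) (.node (nat_lit 0x204000103) (.leaf (nat_lit 0x203040100) (nat_lit 2305))
 (.leaf (nat_lit 0x204000103) (nat_lit 2561))
))) (.node (nat_lit 0x204030100) (.node (nat_lit 0x204010300) (.node (nat_lit 0x204010003) (.leaf (nat_lit 0x204000301) (nat_lit 2305))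
 (.leaf (nat_lit 0x204010003) (nat_lit 2561))
) (.node (nat_lit 0x204030001) (.leaf (nat_lit 0x204010300) (nat_lit 2305))
 (.leaf (nat_lit 0x204030001) (nat_lit 2049))
)) (.node (nat_lit 0x300010402) (.node (nat_lit 0x300010204) (.leaf (nat_lit 0x204030100) (nat_lit 1793))
 (.leaf (nat_lit 0x300010204) (nat_lit 1536))
) (.node (nat_lit 0x300020104) (.leaf (nat_lit 0x300010402) (nat_lit 1280))
 (.leaf (nat_lit 0x300020104) (nat_lit 1536))
)))) (.node (nat_lit 0x301040002) (.node (nat_lit 0x301000204) (.node (nat_lit 0x300040102) (.leaf (nat_lit 0x300020401) (nat_lit 1792))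
 (.node (nat_lit 0x300040201) (.leaf (nat_lit 0x300040102) (nat_lit 2305))
 (.leaf (nat_lit 0x300040201) (nat_lit 2049))
)) (.node (nat_lit 0x301020004) (.node (nat_lit 0x301000402) (.leaf (nat_lit 0x301000204) (nat_lit 1281))
 (.leaf (nat_lit 0x301000402) (nat_lit 1025))
) (.node (nat_lit 0x301020400) (.leaf (nat_lit 0x301020004) (nat_lit 1281))
 (.leaf (nat_lit 0x301020400) (nat_lit 1537))
))) (.node (nat_lit 0x302010004) (.node (nat_lit 0x302000104) (.node (nat_lit 0x301040200) (.leaf (nat_lit 0x301040002) (nat_lit 2560))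
 (.leaf (nat_lit 0x301040200) (nat_lit 2304))
) (.node (nat_lit 0x302000401) (.leaf (nat_lit 0x302000104) (nat_lit 1280))
 (.leaf (nat_lit 0x302000401) (nat_lit 1281))
)) (.node (nat_lit 0x302040001) (.node (nat_lit 0x302010400) (.leaf (nat_lit 0x302010004) (nat_lit 1025))
 (.leaf (nat_lit 0x302010400) (nat_lit 1281))
) (.node (nat_lit 0x302040100) (.leaf (nat_lit 0x302040001) (nat_lit 2817))
 (.leaf (nat_lit 0x302040100) (nat_lit 2817))
))))) (.node (nat_lit 0x401020300) (.node (nat_lit 0x400010302) (.node (nat_lit 0x304010200) (.node (nat_lit 0x304000201) (.leaf (nat_lit 0x304000102) (nat_lit 2304))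
 (.node (nat_lit 0x304010002) (.leaf (nat_lit 0x304000201) (nat_lit 2048))
 (.leaf (nat_lit 0x304010002) (nat_lit 2049))
)) (.node (nat_lit 0x304020100) (.node (nat_lit 0x304020001) (.leaf (nat_lit 0x304010200) (nat_lit 1793))
 (.leaf (nat_lit 0x304020001) (nat_lit 1793))
) (.node (nat_lit 0x400010203) (.leaf (nat_lit 0x304020100) (nat_lit 1537))
 (.leaf (nat_lit 0x400010203) (nat_lit 2561))
))) (.node (nat_lit 0x400030201) (.node (nat_lit 0x400020301) (.node (nat_lit 0x400020103) (.leaf (nat_lit 0x400010302) (nat_lit 2305))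
 (.leaf (nat_lit 0x400020103) (nat_lit 1792))
) (.node (nat_lit 0x400030102) (.leaf (nat_lit 0x400020301) (nat_lit 2048))
 (.leaf (nat_lit 0x400030102) (nat_lit 2049))
)) (.node (nat_lit 0x401000302) (.node (nat_lit 0x401000203) (.leaf (nat_lit 0x400030201) (nat_lit 1793))
 (.leaf (nat_lit 0x401000203) (nat_lit 2561))
) (.node (nat_lit 0x401020003) (.leaf (nat_lit 0x401000302) (nat_lit 2305))
 (.leaf (nat_lit 0x401020003) (nat_lit 1537))
)))) (.node (nat_lit 0x402030001) (.node (nat_lit 0x402000103) (.node (nat_lit 0x401030002) (.leaf (nat_lit 0x401020300) (nat_lit 1793))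
 (.node (nat_lit 0x401030200) (.leaf (nat_lit 0x401030002) (nat_lit 2049))
 (.leaf (nat_lit 0x401030200) (nat_lit 1793))
)) (.node (nat_lit 0x402010003) (.node (nat_lit 0x402000301) (.leaf (nat_lit 0x402000103) (nat_lit 1536))
 (.leaf (nat_lit 0x402000301) (nat_lit 1792))
) (.node (nat_lit 0x402010300) (.leaf (nat_lit 0x402010003) (nat_lit 1281))
 (.leaf (nat_lit 0x402010300) (nat_lit 1537))
))) (.node (nat_lit 0x403010002) (.node (nat_lit 0x403000102) (.node (nat_lit 0x402030100) (.leaf (nat_lit 0x402030001) (nat_lit 1793))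
 (.leaf (nat_lit 0x402030100) (nat_lit 1537))
) (.node (nat_lit 0x403000201) (.leaf (nat_lit 0x403000102) (nat_lit 1792))
 (.leaf (nat_lit 0x403000201) (nat_lit 1792))
)) (.node (nat_lit 0x403020001) (.node (nat_lit 0x403010200) (.leaf (nat_lit 0x403010002) (nat_lit 1537))
 (.leaf (nat_lit 0x403010200) (nat_lit 1537))
) (.node (nat_lit 0x403020100) (.leaf (nat_lit 0x403020001) (nat_lit 256))
 (.leaf (nat_lit 0x403020100) (nat_lit 0))
)))))))

theorem S5_ok : genOK P5 [(nat_lit 0x403020001), (nat_lit 0x4030201)] S5_t (nat_lit 120) = true := by decide +kernel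

end Cfsg.Agent.Rec.X32
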